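import Groth.Agent.RelPerfH7.Basic
import Groth.Agent.PCHomLib.Flat
import Groth.Agent.DRingLib.FlatCoker

/-! Relatively perfect complexes as bounded complexes of relatively flat modules. -/

set_option autoImplicit false
set_option backward.isDefEq.respectTransparency false

universe u

open CategoryTheory Limits
attribute [local instance] HasDerivedCategory.standard

noncomputable section

namespace Groth.Agent.RelPerfH7

open Groth.Agent.DRingLib Groth.Agent.DCohLib Groth.Agent.DTenLib

variable {R A : Type u} [CommRing R] [CommRing A] [Algebra R A]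

/-- A finitely presented module, flat over the base, is pseudo-coherent. -/
lemma pc_inD_of_fp_flat [Module.Flat R A] [Algebra.FinitePresentation R A] (M : ModuleCat.{u} A)
    [Module.FinitePresentation A M]
    (hM : Module.Flat R ((ModuleCat.restrictScalars.{u} (algebraMap R A)).obj M)) (m : ℤ) :
    PC FFree m (Dual.inD A M) := by
  obtain ⟨n, φ, hφ, hker⟩ := Algebra.FinitePresentation.out (R := R) (A := A)
  have hP : PCMap φ.toRingHom := (PCHomLib.pcHom_of_flat (A := R) (B := A)).pcMap φ.toRingHom hφ φ.comp_algebraMap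
  refine hP.descend (K := Dual.inD A M) ?_
  obtain ⟨e⟩ := nonempty_restrictD_inD φ.toRingHom M
  refine PC.of_iso ?_ e.symm
  letI := φ.toRingHom.toAlgebra
  letI : Module R M := Module.compHom M (algebraMap R A)
  letI : Module (MvPolynomial (Fin n) R) M := Module.compHom M φ.toRingHom
  haveI : IsScalarTower R A M := .of_algebraMap_smul fun _ _ => rfl
  haveI : IsScalarTower (MvPolynomial (Fin n) R) A M := .of_algebraMap_smul fun _ _ => rfl
  haveI : IsScalarTower R (MvPolynomial (Fin n) R) M := .of_algebraMap_smul fun r x => by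
    show φ (algebraMap R (MvPolynomial (Fin n) R) r) • x = algebraMap R A r • x
    rw [φ.commutes]
  haveI : Module.FinitePresentation (MvPolynomial (Fin n) R) A :=
    Module.finitePresentation_of_surjective (Algebra.linearMap (MvPolynomial (Fin n) R) A) hφ hker
  haveI : Module.FinitePresentation (MvPolynomial (Fin n) R) M := Module.FinitePresentation.trans _ _ A
  haveI : Module.Flat R M := hM
  exact (PCHomLib.pc_inD_of_flat (-m).toNat M).mono (by omega)

lemma isRelPerfect_of_flat_fp_terms [Module.Flat R A] [Algebra.FinitePresentation R A] {E : DRing.Cx A}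
    {a b : ℤ} (hE : DRing.VanishesOutside E a b)
    (h : ∀ i : ℤ, Module.FinitePresentation A (E.X i) ∧
      Module.Flat R ((ModuleCat.restrictScalars.{u} (algebraMap R A)).obj (E.X i))) :
    Dual2.IsRelPerfect R A (DRing.toD E) :=
  ⟨(isPseudoCoherent'_iff _).2 fun m => pc_of_terms projClass_fFree (fun i hi => hE i (Or.inr hi)) m
      fun i _ => haveI := (h i).1; pc_inD_of_fp_flat (E.X i) (h i).2 _,
    a, b, amp_restrict_of_flat_terms E hE fun i => (h i).2⟩

lemma flat_res_of_iso {M N : ModuleCat.{u} A} (e : M ≅ N)
    (h : Module.Flat R ((ModuleCat.restrictScalars.{u} (algebraMap R A)).obj N)) :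
    Module.Flat R ((ModuleCat.restrictScalars.{u} (algebraMap R A)).obj M) :=
  haveI := h
  Module.Flat.of_linearEquiv ((ModuleCat.restrictScalars.{u} (algebraMap R A)).mapIso e).toLinearEquiv

lemma flat_res_opcycles (P : DRing.Cx A) (i : ℤ)
    (h : Module.Flat R (((DTen.resCx (algebraMap R A)).obj P).X i ⧸
      LinearMap.range (((DTen.resCx (algebraMap R A)).obj P).d (i - 1) i).hom)) :
    Module.Flat R ((ModuleCat.restrictScalars.{u} (algebraMap R A)).obj (P.opcycles i)) := by
  obtain ⟨q'⟩ := opcycles_equiv ((DTen.resCx (algebraMap R A)).obj P) i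
  haveI := h
  haveI : Module.Flat R (((DTen.resCx (algebraMap R A)).obj P).opcycles i) :=
    Module.Flat.of_linearEquiv q'.symm
  have e : ((DTen.resCx (algebraMap R A)).obj P).opcycles i ≅
      (ModuleCat.restrictScalars.{u} (algebraMap R A)).obj (P.opcycles i) :=
    (P.sc i).mapOpcyclesIso (ModuleCat.restrictScalars.{u} (algebraMap R A))
  exact Module.Flat.of_linearEquiv e.toLinearEquiv.symm

lemma exists_flat_fp_complex [Module.Flat R A] {K : Dual.D A} (hK : Dual2.IsRelPerfect R A K) :
    ∃ (E : DRing.Cx A) (a b : ℤ), DRing.VanishesOutside E a b ∧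
      (∀ i : ℤ, Module.FinitePresentation A (E.X i) ∧
        Module.Flat R ((ModuleCat.restrictScalars.{u} (algebraMap R A)).obj (E.X i))) ∧
      Nonempty (DRing.toD E ≅ K) := by
  obtain ⟨⟨P, c, hP, hPf, ⟨e⟩⟩, a, b, hamp⟩ := hK
  let res := ModuleCat.restrictScalars.{u} (algebraMap R A)
  let X : DRing.Cx R := (DTen.resCx (algebraMap R A)).obj P
  have hXa : DRing.VanishesAbove X c := fun i hi => res.map_isZero (hP i hi)
  have hfp : ∀ i, Module.FinitePresentation A (P.X i) := fun i => by
    haveI := (hPf i).1
    haveI := (hPf i).2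
    exact Module.finitePresentation_of_projective _ _
  have hXf : DRing.TermwiseFlat X := fun i => by
    haveI := (hPf i).2
    exact flat_restrict (P.X i)
  have hX : DRing.HasTorAmplitudeIn R a b (DRing.toD X) :=
    amp_of_iso ((DRing.restrictD (algebraMap R A)).mapIso e.symm ≪≫ (DTen.resFactors (algebraMap R A)).app P) hamp
  haveI : P.IsGE a := (CochainComplex.isGE_iff _ _).2 fun i hi => by
    refine (exactAt_resCx_iff (algebraMap R A) P i).1 ?_
    obtain ⟨F, hF, -, ⟨eF⟩⟩ := hX
    refine (HomologicalComplex.exactAt_iff_isZero_homology _ _).2 ?_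
    exact ((HomologicalComplex.exactAt_iff_isZero_homology _ _).1
      (ShortComplex.exact_of_isZero_X₂ _ (hF i (Or.inl hi)))).of_iso
        (((DerivedCategory.homologyFunctorFactors _ i).app _).symm ≪≫
          (DerivedCategory.homologyFunctor (ModuleCat.{u} R) i).mapIso eF.symm ≪≫
          (DerivedCategory.homologyFunctorFactors _ i).app _)
  refine ⟨P.truncGE a, a, max a c, fun i hi => ?_, fun i => ?_, ⟨?_⟩⟩
  · rcases hi with hi | hi
    · exact CochainComplex.isZero_of_isStrictlyGE _ a i hi
    · exact (hP i (by omega)).of_iso (P.truncGEXIso a i (by omega))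
  · rcases lt_trichotomy i a with hi | rfl | hi
    · have h0 : IsZero ((P.truncGE a).X i) := CochainComplex.isZero_of_isStrictlyGE _ a i hi
      haveI : Subsingleton ((P.truncGE a).X i) := ModuleCat.subsingleton_of_isZero h0
      haveI : Subsingleton (res.obj ((P.truncGE a).X i)) := ‹Subsingleton ((P.truncGE a).X i)›
      exact ⟨Module.finitePresentation_of_projective _ _, inferInstance⟩
    · obtain ⟨q⟩ := opcycles_equiv P i
      haveI := hfp i
      haveI := hfp (i - 1)
      haveI : Module.FinitePresentation A (P.X i ⧸ LinearMap.range (P.d (i - 1) i).hom) :=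
        Module.finitePresentation_of_surjective _ (Submodule.mkQ_surjective _)
          (by rw [Submodule.ker_mkQ, ← Submodule.map_top]; exact Submodule.FG.map _ Module.Finite.fg_top)
      exact ⟨Module.FinitePresentation.of_equiv (q ≪≫ₗ (P.truncGEXIsoOpcycles i).toLinearEquiv.symm),
        flat_res_of_iso (P.truncGEXIsoOpcycles i) (flat_res_opcycles P i (flat_cokernel hXa hXf hX))⟩
    · haveI := hfp i
      exact ⟨Module.FinitePresentation.of_equiv (P.truncGEXIso a i hi).toLinearEquiv.symm,
        flat_res_of_iso (P.truncGEXIso a i hi) (hXf i)⟩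
  · haveI : QuasiIso (P.πTruncGE a) := inferInstance
    haveI : IsIso (DerivedCategory.Q.map (P.πTruncGE a)) := isIso_Q_of_quasiIso _ inferInstance
    exact (asIso (DerivedCategory.Q.map (P.πTruncGE a))).symm ≪≫ e

end Groth.Agent.RelPerfH7
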