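import Groth.Agent.RelPerfH7.Basic
import Groth.Agent.PCHomLib.RelLocal
import Groth.Agent.DRingLib.DescentPC

/-! Base change of relatively perfect complexes. -/

set_option autoImplicit false
set_option backward.isDefEq.respectTransparency false

universe u

open CategoryTheory Limits TensorProduct
attribute [local instance] HasDerivedCategory.standard Algebra.TensorProduct.rightAlgebra

noncomputable section

namespace Groth.Agent.RelPerfH7

open Groth.Agent.DRingLib Groth.Agent.DCohLib Groth.Agent.DTenLib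

variable (R A R' : Type u) [CommRing R] [CommRing A] [Algebra R A] [CommRing R'] [Algebra R R']

lemma algebraMap_right : algebraMap A (R' ⊗[R] A) = (Algebra.TensorProduct.includeRight.toRingHom : A →+* R' ⊗[R] A) :=
  rfl

lemma nonempty_restrict_lbc [Module.Flat R A] [DRing.HasLBaseChange (algebraMap R R')]
    [DRing.HasLBaseChange (Algebra.TensorProduct.includeRight.toRingHom : A →+* R' ⊗[R] A)]
    {K : Dual.D A} (hpc : DRing.IsPseudoCoherent' A K) :
    Nonempty ((DRing.LBaseChange (algebraMap R R')).obj ((DRing.restrictD (algebraMap R A)).obj K) ≅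
      (DRing.restrictD (algebraMap R' (R' ⊗[R] A))).obj
        ((DRing.LBaseChange (Algebra.TensorProduct.includeRight.toRingHom : A →+* R' ⊗[R] A)).obj K)) := by
  obtain ⟨P, c, hP, hPf, ⟨e⟩⟩ := hpc
  have hPk : DRing.IsKFlat A P := isKFlat_of_vanishesAbove hP fun i => by haveI := (hPf i).2; infer_instance
  have hXk : DRing.IsKFlat R ((DTen.resCx (algebraMap R A)).obj P) :=
    isKFlat_of_vanishesAbove (b := c)
      (fun i hi => (ModuleCat.restrictScalars.{u} (algebraMap R A)).map_isZero (hP i hi))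
      fun i => by haveI := (hPf i).2; exact flat_restrict (P.X i)
  exact ⟨(DRing.LBaseChange (algebraMap R R')).mapIso
      (((DRing.restrictD (algebraMap R A)).mapIso e).symm ≪≫ (DTen.resFactors (algebraMap R A)).app P) ≪≫
    lbcIso (algebraMap R R') _ hXk ≪≫
    DerivedCategory.Q.mapIso ((NatIso.mapHomologicalComplex
      (PCHomLib.pushoutExtendIso R R' A (R' ⊗[R] A)) (ComplexShape.up ℤ)).app P) ≪≫
    ((DTen.resFactors (algebraMap R' (R' ⊗[R] A))).app ((DTen.extCx (algebraMap A (R' ⊗[R] A))).obj P)).symm ≪≫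
    (DRing.restrictD (algebraMap R' (R' ⊗[R] A))).mapIso
      ((lbcIso (Algebra.TensorProduct.includeRight.toRingHom : A →+* R' ⊗[R] A) P hPk).symm ≪≫
        (DRing.LBaseChange _).mapIso e)⟩

lemma isRelPerfect_lbc [Module.Flat R A]
    [DRing.HasLBaseChange (Algebra.TensorProduct.includeRight.toRingHom : A →+* R' ⊗[R] A)]
    {K : Dual.D A} (hK : Dual2.IsRelPerfect R A K) :
    Dual2.IsRelPerfect R' (R' ⊗[R] A)
      ((DRing.LBaseChange (Algebra.TensorProduct.includeRight.toRingHom : A →+* R' ⊗[R] A)).obj K) := by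
  obtain ⟨hpc, a, b, hamp⟩ := hK
  haveI : DRing.HasLBaseChange (algebraMap R R') := hasLBaseChange _
  obtain ⟨e⟩ := nonempty_restrict_lbc R A R' hpc
  exact ⟨(isPseudoCoherent'_iff _).2 fun m => pc_lbc _ ((isPseudoCoherent'_iff _).1 hpc m), a, b,
    amp_of_iso e (hasTorAmplitudeIn_lbc (φ := algebraMap R R') hamp)⟩

lemma ker_includeRight_nilpotent (hs : Function.Surjective (algebraMap R R'))
    (hn : IsNilpotent (RingHom.ker (algebraMap R R'))) :
    Function.Surjective (Algebra.TensorProduct.includeRight.toRingHom : A →+* R' ⊗[R] A) ∧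
      IsNilpotent (RingHom.ker (Algebra.TensorProduct.includeRight.toRingHom : A →+* R' ⊗[R] A)) := by
  refine ⟨Algebra.TensorProduct.includeRight_surjective A hs, ?_⟩
  obtain ⟨n, hn⟩ := hn
  refine ⟨n, ?_⟩
  let I := RingHom.ker (algebraMap R R')
  let J : Ideal A := I.map (algebraMap R A)
  have hle : RingHom.ker (Algebra.ofId R R') ≤ RingHom.ker (Algebra.ofId R (A ⧸ J)) := fun x hx => by
    rw [RingHom.mem_ker]
    show algebraMap R (A ⧸ J) x = 0
    rw [IsScalarTower.algebraMap_apply R A (A ⧸ J)]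
    exact Ideal.Quotient.eq_zero_iff_mem.2 (Ideal.mem_map_of_mem _ hx)
  let ψ : R' ⊗[R] A →ₐ[R] A ⧸ J :=
    Algebra.TensorProduct.lift (AlgHom.liftOfSurjective (Algebra.ofId R R') hs (Algebra.ofId R (A ⧸ J)) hle)
      (Ideal.Quotient.mkₐ R J) fun _ _ => Commute.all _ _
  have hk : RingHom.ker (Algebra.TensorProduct.includeRight.toRingHom : A →+* R' ⊗[R] A) ≤ J := fun x hx => by
    have h : ψ ((1 : R') ⊗ₜ[R] x) = Ideal.Quotient.mk J x := by simp [ψ]
    rw [← Ideal.Quotient.eq_zero_iff_mem, ← h, show (1 : R') ⊗ₜ[R] x = 0 from hx, map_zero]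
  refine le_bot_iff.1 ((Ideal.pow_right_mono hk n).trans (le_of_eq ?_))
  rw [← Ideal.map_pow, hn, Submodule.zero_eq_bot, Ideal.map_bot]

lemma isRelPerfect_of_lbc [Module.Flat R A] (hs : Function.Surjective (algebraMap R R'))
    (hn : IsNilpotent (RingHom.ker (algebraMap R R')))
    [DRing.HasLBaseChange (Algebra.TensorProduct.includeRight.toRingHom : A →+* R' ⊗[R] A)]
    {K : Dual.D A} (hK : Dual2.IsRelPerfect R' (R' ⊗[R] A)
      ((DRing.LBaseChange (Algebra.TensorProduct.includeRight.toRingHom : A →+* R' ⊗[R] A)).obj K)) :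
    Dual2.IsRelPerfect R A K := by
  obtain ⟨hpc', a, b, hamp⟩ := hK
  obtain ⟨hs', hn'⟩ := ker_includeRight_nilpotent R A R' hs hn
  have hpc := isPseudoCoherent'_of_lbc_nilpotent _ hs' hn' hpc'
  haveI : DRing.HasLBaseChange (algebraMap R R') := hasLBaseChange _
  obtain ⟨e⟩ := nonempty_restrict_lbc R A R' hpc
  exact ⟨hpc, a, b, amp_of_lbc_nilpotent (algebraMap R R') hs hn (amp_of_iso e.symm hamp)⟩

end Groth.Agent.RelPerfH7
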