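import Groth.Agent.DRingLib.RestrictAmp2
import Groth.Agent.DRingLib.Perfect
import Groth.Agent.DRingLib.TensorPerfect
import Groth.Prelude.Def_DRing4
import Groth.Prelude.Def_DualSh
import Mathlib.RingTheory.Flat.Stability

/-! Relatively perfect complexes. -/

set_option autoImplicit false
set_option backward.isDefEq.respectTransparency false

universe u

open CategoryTheory Limits Pretriangulated MonoidalCategory
attribute [local instance] HasDerivedCategory.standard

noncomputable section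

namespace Groth.Agent.RelPerfH7

open Groth.Agent.DRingLib Groth.Agent.DCohLib Groth.Agent.DTenLib

variable {R A : Type u} [CommRing R] [CommRing A] [Algebra R A]

lemma flat_restrict (M : ModuleCat.{u} A) [Module.Flat R A] [Module.Flat A M] :
    Module.Flat R ((ModuleCat.restrictScalars.{u} (algebraMap R A)).obj M) := by
  letI : Module R M := Module.compHom M (algebraMap R A)
  haveI : IsScalarTower R A M := IsScalarTower.of_algebraMap_smul fun _ _ => rfl
  exact Module.Flat.trans R A M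

/-- A bounded complex with terms flat over the base has finite tor dimension over the base. -/
lemma amp_restrict_of_flat_terms (E : DRing.Cx A) {a b : ℤ} (hE : DRing.VanishesOutside E a b)
    (hf : ∀ i, Module.Flat R ((ModuleCat.restrictScalars.{u} (algebraMap R A)).obj (E.X i))) :
    DRing.HasTorAmplitudeIn R a b ((DRing.restrictD (algebraMap R A)).obj (DRing.toD E)) :=
  ⟨(DTen.resCx (algebraMap R A)).obj E,
    fun i hi => (ModuleCat.restrictScalars.{u} (algebraMap R A)).map_isZero (hE i hi), hf,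
    ⟨((DTen.resFactors (algebraMap R A)).app E).symm⟩⟩

lemma isRelPerfect_of_isPerfect [Module.Flat R A] {K : Dual.D A} (hK : DRing.IsPerfect A K) :
    Dual2.IsRelPerfect R A K := by
  refine ⟨pcPrime_of_perf ((isPerfect_iff K).1 hK), ?_⟩
  obtain ⟨E, a, b, hE, hP, ⟨e⟩⟩ := hK
  refine ⟨a, b, amp_of_iso ((DRing.restrictD (algebraMap R A)).mapIso e)
    (amp_restrict_of_flat_terms E hE fun i => ?_)⟩
  haveI := (hP i).2
  exact flat_restrict (E.X i)

lemma isRelPerfect_of_iso {K L : Dual.D A} (e : K ≅ L) (h : Dual2.IsRelPerfect R A K) :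
    Dual2.IsRelPerfect R A L := by
  obtain ⟨hpc, a, b, hamp⟩ := h
  exact ⟨(isPseudoCoherent'_iff _).2 fun m => (((isPseudoCoherent'_iff _).1 hpc) m).of_iso e, a, b,
    amp_of_iso ((DRing.restrictD (algebraMap R A)).mapIso e) hamp⟩

lemma isRelPerfect_zero {K : Dual.D A} (hK : IsZero K) : Dual2.IsRelPerfect R A K :=
  ⟨(isPseudoCoherent'_iff _).2 fun m => (perf_of_isZero projClass_fFree hK).pc _, 0, 0,
    amp_of_isZero ((DRing.restrictD (algebraMap R A)).map_isZero hK) 0 0⟩

lemma isRelPerfect_shift {K : Dual.D A} (h : Dual2.IsRelPerfect R A K) (n : ℤ) :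
    Dual2.IsRelPerfect R A (K⟦n⟧) := by
  obtain ⟨hpc, a, b, hamp⟩ := h
  exact ⟨(isPseudoCoherent'_iff _).2 fun m => (((isPseudoCoherent'_iff _).1 hpc) (m + n)).shift' n (by omega),
    a - n, b - n, amp_of_iso (((DRing.restrictD (algebraMap R A)).commShiftIso n).app K).symm (amp_shift hamp n)⟩

lemma isRelPerfect_obj₂ (T : Triangle (Dual.D A)) (hT : T ∈ distinguishedTriangles)
    (h₁ : Dual2.IsRelPerfect R A T.obj₁) (h₃ : Dual2.IsRelPerfect R A T.obj₃) :
    Dual2.IsRelPerfect R A T.obj₂ := by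
  obtain ⟨hp₁, a, b, ha₁⟩ := h₁
  obtain ⟨hp₃, c, d, ha₃⟩ := h₃
  refine ⟨(isPseudoCoherent'_iff _).2 fun m => PC.obj₂ projClass_fFree T hT
    ((isPseudoCoherent'_iff _).1 hp₁ m) ((isPseudoCoherent'_iff _).1 hp₃ m), min a c, max b d, ?_⟩
  exact amp_obj₂ _ ((DRing.restrictD (algebraMap R A)).map_distinguished T hT)
    (hasTorAmplitudeIn_mono (min_le_left _ _) (le_max_left _ _) ha₁)
    (hasTorAmplitudeIn_mono (min_le_right _ _) (le_max_right _ _) ha₃)

lemma isRelPerfect_summands {X Y : Dual.D A} [HasBinaryBiproduct X Y] (h : Dual2.IsRelPerfect R A (X ⊞ Y)) :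
    Dual2.IsRelPerfect R A X ∧ Dual2.IsRelPerfect R A Y := by
  obtain ⟨hpc, a, b, hamp⟩ := h
  exact ⟨⟨(isPseudoCoherent'_iff _).2 fun m => (PC.summands projClass_fFree ((isPseudoCoherent'_iff _).1 hpc m)).1,
      a, b, amp_of_retract ((Retract.mk biprod.inl biprod.fst biprod.inl_fst).map
        (DRing.restrictD (algebraMap R A))) hamp⟩,
    ⟨(isPseudoCoherent'_iff _).2 fun m => (PC.summands projClass_fFree ((isPseudoCoherent'_iff _).1 hpc m)).2,
      a, b, amp_of_retract ((Retract.mk biprod.inr biprod.snd biprod.inr_snd).map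
        (DRing.restrictD (algebraMap R A))) hamp⟩⟩

/-- Tensoring with a strictly perfect complex. -/
lemma isRelPerfect_LTensorCx (E : DRing.Cx A) (a b : ℤ) (hEb : DRing.VanishesOutside E a b)
    (hEp : DRing.TermwiseFiniteProjective E) [DRing.HasLTensorCx A E] {M : Dual.D A}
    (hM : Dual2.IsRelPerfect R A M) : Dual2.IsRelPerfect R A ((DRing.LTensorCx A E).obj M) := by
  obtain ⟨hpc, c, d, hamp⟩ := hM
  refine ⟨isPseudoCoherent'_LTensorCx E hpc
    (pcPrime_of_perf ((isPerfect_iff _).1 ⟨E, a, b, hEb, hEp, ⟨Iso.refl _⟩⟩)), a + c, b + d, ?_⟩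
  have hEk : DRing.IsKFlat A E := isKFlat_of_vanishesAbove (b := b) (fun i hi => hEb i (Or.inr hi))
    fun i => by haveI := (hEp i).2; infer_instance
  obtain ⟨X, e', hX, hXp, ⟨eX⟩⟩ := hpc
  have hXk : DRing.IsKFlat A X := isKFlat_of_vanishesAbove hX fun i => by haveI := (hXp i).2; infer_instance
  obtain ⟨e⟩ := nonempty_LTensorCx_iso E hXk eX (Iso.refl (DRing.toD E))
  refine amp_of_iso ((DRing.restrictD (algebraMap R A)).mapIso e) ((amp_restrict_iff _ _ _ _).2 fun N i hi => ?_)
  let F := (DTen.extCx (algebraMap R A)).obj (resM N)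
  let W : DRing.Cx A := X ⊗ F
  have hW : ∀ j, (j < c ∨ d < j) → W.ExactAt j :=
    (amp_restrict_iff _ X c d).1 (amp_of_iso ((DRing.restrictD (algebraMap R A)).mapIso eX).symm hamp) N
  haveI : W.IsGE c := (CochainComplex.isGE_iff _ _).2 fun j hj => hW j (Or.inl hj)
  haveI : W.IsLE d := (CochainComplex.isLE_iff _ _).2 fun j hj => hW j (Or.inr hj)
  let W₁ := W.truncLE d
  haveI : W₁.IsGE c := (CochainComplex.isGE_iff _ _).2 fun j hj =>
    (exactAt_iff_of_quasiIso (W.ιTruncLE d) inferInstance j).2 (hW j (Or.inl hj))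
  let W₂ := W₁.truncGE c
  refine (exactAt_iff_of_iso (α_ E X F ≪≫ DTen.braidCx E W) i).2 ?_
  refine (exactAt_iff_of_quasiIso _ (quasiIso_whiskerRight (W.ιTruncLE d) hEk) i).1 ?_
  refine (exactAt_iff_of_quasiIso _ (quasiIso_whiskerRight (W₁.πTruncGE c) hEk) i).2 ?_
  refine ShortComplex.exact_of_isZero_X₂ _ (isZero_tensor_X fun p q hpq => ?_)
  by_cases hp : p < c
  · exact Or.inl (CochainComplex.isZero_of_isStrictlyGE W₂ c p hp)
  · by_cases hp' : d < p
    · refine Or.inl ?_
      rcases eq_or_lt_of_le (show c ≤ p by omega) with rfl | h'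
      · exact IsZero.of_iso (IsZero.of_epi (W₁.pOpcycles c) (CochainComplex.isZero_of_isStrictlyLE W₁ d c hp'))
          (W₁.truncGEXIsoOpcycles c)
      · exact (CochainComplex.isZero_of_isStrictlyLE W₁ d p hp').of_iso (W₁.truncGEXIso c p h')
    · exact Or.inr (hEb q (by omega))

end Groth.Agent.RelPerfH7
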